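import Groth.Prelude.Def_W4c4lgringredgrpLG
import Mathlib.RingTheory.Spectrum.Prime.FreeLocus
import Mathlib.RingTheory.Spectrum.Prime.Topology
import Mathlib.RingTheory.Support
import Mathlib.RingTheory.Nakayama
import Mathlib.LinearAlgebra.TensorProduct.Pi
import Mathlib.LinearAlgebra.SymmetricAlgebra.Basic
import Mathlib.RingTheory.MvPolynomial.Ideal
import Mathlib.Algebra.MvPolynomial.Funext
import Mathlib.Tactic

/-!
# Local-global rings: representing units, projective modules, points of open subschemes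
-/

set_option autoImplicit false

open TensorProduct

universe u v w

namespace Groth.Agent.LGLib

variable {R : Type u} [CommRing R]

/-- the local-global property for any finite set of variables -/
theorem representsUnit (hR : LGRing.IsLGRing R) {σ : Type} [Finite σ] (f : MvPolynomial σ R)
    (h : ∀ (m : Ideal R) [m.IsMaximal], ∃ s : σ → R ⧸ m, MvPolynomial.aeval s f ≠ 0) :
    ∃ s : σ → R, IsUnit (MvPolynomial.aeval s f) := by
  have : Fintype σ := Fintype.ofFinite σ
  let e := Fintype.equivFin σ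
  obtain ⟨s, hs⟩ := hR _ (MvPolynomial.rename e f) fun m _ => by
    obtain ⟨s, hs⟩ := h m
    letI := Ideal.Quotient.field m
    refine ⟨s ∘ e.symm, ?_⟩
    rw [MvPolynomial.aeval_rename, Function.comp_assoc, e.symm_comp_self, Function.comp_id]
    exact isUnit_iff_ne_zero.mpr hs
  exact ⟨s ∘ e, by rwa [MvPolynomial.aeval_rename] at hs⟩

theorem exists_retract (M : Type v) [AddCommGroup M] [Module R M] [Module.Finite R M] [Module.Projective R M] :
    ∃ (n : ℕ) (π : (Fin n → R) →ₗ[R] M) (σ : M →ₗ[R] (Fin n → R)), ∀ x, π (σ x) = x := by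
  obtain ⟨n, π, hπ⟩ := Module.Finite.exists_fin' R M
  obtain ⟨σ, hσ⟩ := Module.projective_lifting_property π LinearMap.id hπ
  exact ⟨n, π, σ, fun x => LinearMap.congr_fun hσ x⟩

theorem exists_unimodular (hR : LGRing.IsLGRing R) (M : Type v) [AddCommGroup M] [Module R M] [Module.Finite R M]
    [Module.Projective R M] [FaithfulSMul R M] : ∃ (m : M) (f : Module.Dual R M), f m = 1 := by
  classical
  obtain ⟨n, π, σ, hπσ⟩ := exists_retract (R := R) M
  let a : Fin n → Fin n → R := fun i j => σ (π (Pi.single i 1)) j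
  let F : MvPolynomial (Fin n ⊕ Fin n) R :=
    ∑ i, ∑ j, MvPolynomial.C (a i j) * MvPolynomial.X (Sum.inl i) * MvPolynomial.X (Sum.inr j)
  have hF : ∀ {S : Type u} [CommRing S] [Algebra R S] (s t : Fin n → S),
      MvPolynomial.aeval (Sum.elim s t) F = ∑ i, ∑ j, algebraMap R S (a i j) * s i * t j := fun s t => by
    simp [F]
  obtain ⟨s, hs⟩ := representsUnit hR F fun m hm => by
    have : ∃ i j, a i j ∉ m := by
      by_contra hc
      push Not at hc
      have hsm : ∀ v : Fin n → R, ∀ j, σ (π v) j ∈ m := fun v j => by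
        rw [pi_eq_sum_univ' v, map_sum, map_sum, Finset.sum_apply]
        refine m.sum_mem fun i _ => ?_
        rw [map_smul, map_smul, Pi.smul_apply, smul_eq_mul]
        exact m.mul_mem_left _ (hc i j)
      have hle : (⊤ : Submodule R M) ≤ m • (⊤ : Submodule R M) := fun x _ => by
        have h1 := hsm (σ x)
        rw [hπσ] at h1
        rw [← hπσ x, pi_eq_sum_univ' (σ x), map_sum]
        refine Submodule.sum_mem _ fun i _ => ?_
        rw [map_smul]
        exact Submodule.smul_mem_smul (h1 i) Submodule.mem_top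
      obtain ⟨r, hr1, hr2⟩ :=
        Submodule.exists_sub_one_mem_and_smul_eq_zero_of_fg_of_le_smul m ⊤ Module.Finite.fg_top hle
      have hr0 : r = 0 := eq_of_smul_eq_smul (α := M) fun x => by rw [hr2 x Submodule.mem_top, zero_smul]
      rw [hr0, zero_sub, neg_mem_iff] at hr1
      exact hm.ne_top (m.eq_top_iff_one.mpr hr1)
    obtain ⟨i, j, hij⟩ := this
    refine ⟨Sum.elim (Pi.single i 1) (Pi.single j 1), ?_⟩
    rw [hF, Finset.sum_eq_single i (fun b _ hb => by simp [Pi.single_eq_of_ne hb]) (by simp),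
      Finset.sum_eq_single j (fun b _ hb => by simp [Pi.single_eq_of_ne hb]) (by simp),
      Pi.single_eq_same, Pi.single_eq_same, mul_one, mul_one, Ideal.Quotient.algebraMap_eq]
    rwa [Ne, Ideal.Quotient.eq_zero_iff_mem]
  obtain ⟨u, hu⟩ := hs
  let f : Module.Dual R M :=
    (u⁻¹ : Rˣ).val • ∑ j, s (Sum.inr j) • (LinearMap.proj j ∘ₗ σ)
  refine ⟨π (fun i => s (Sum.inl i)), f, ?_⟩
  have hval : ∑ j, s (Sum.inr j) * σ (π fun i => s (Sum.inl i)) j = MvPolynomial.aeval s F := by
    rw [← Sum.elim_comp_inl_inr s, hF, Finset.sum_comm]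
    refine Finset.sum_congr rfl fun j _ => ?_
    rw [pi_eq_sum_univ' (fun i => Sum.elim (s ∘ Sum.inl) (s ∘ Sum.inr) (Sum.inl i)), map_sum, map_sum,
      Finset.sum_apply, Finset.mul_sum]
    refine Finset.sum_congr rfl fun i _ => ?_
    simp [a]
    ring
  have hfx : ∀ x, f x = u⁻¹.val * ∑ j, s (Sum.inr j) * σ x j := fun x => by simp [f]
  rw [hfx, hval, ← hu, Units.inv_mul]

section Iso

variable {M : Type v} [AddCommGroup M] [Module R M] {a : ℕ}

theorem baseChange_retract (S : Type u) [CommRing S] [Algebra R S] (π : (Fin a → R) →ₗ[R] M)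
    (σ : M →ₗ[R] (Fin a → R)) (h : ∀ x, π (σ x) = x) :
    ∃ (π' : (Fin a → S) →ₗ[S] S ⊗[R] M) (σ' : S ⊗[R] M →ₗ[S] (Fin a → S)), (∀ x, π' (σ' x) = x) ∧
      σ' ∘ₗ π' = Matrix.toLin' ((LinearMap.toMatrix' (σ ∘ₗ π)).map (algebraMap R S)) := by
  classical
  let e := TensorProduct.piScalarRight R S S (Fin a)
  refine ⟨π.baseChange S ∘ₗ e.symm.toLinearMap, e.toLinearMap ∘ₗ σ.baseChange S, fun x => ?_, ?_⟩
  · simp only [LinearMap.comp_apply, LinearEquiv.coe_coe, LinearEquiv.symm_apply_apply]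
    rw [← LinearMap.comp_apply, ← LinearMap.baseChange_comp,
      show π ∘ₗ σ = LinearMap.id from LinearMap.ext h, LinearMap.baseChange_id]
    rfl
  · have hsingle : ∀ j, e.symm (Pi.single j 1) = (1 : S) ⊗ₜ[R] (Pi.single j 1 : Fin a → R) := fun j => by
      rw [LinearEquiv.symm_apply_eq, TensorProduct.piScalarRight_apply, TensorProduct.piScalarRightHom_tmul]
      funext i
      rcases eq_or_ne i j with rfl | hi
      · simp
      · simp [Pi.single_eq_of_ne hi]
    refine (Pi.basisFun S (Fin a)).ext fun j => funext fun i => ?_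
    simp only [Pi.basisFun_apply, LinearMap.comp_apply, LinearEquiv.coe_coe, hsingle,
      LinearMap.baseChange_tmul, Matrix.toLin'_apply, Matrix.mulVec_single_one, e,
      TensorProduct.piScalarRight_apply, TensorProduct.piScalarRightHom_tmul, Matrix.col_apply, Matrix.map_apply,
      LinearMap.toMatrix'_apply, Algebra.algebraMap_eq_smul_one]

variable {N : Type w} [AddCommGroup N] [Module R N]

theorem nonempty_linearEquiv_of_rank_eq (hR : LGRing.IsLGRing R) [Module.Finite R M] [Module.Projective R M]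
    [Module.Finite R N] [Module.Projective R N]
    (h : ∀ p : PrimeSpectrum R, Module.rankAtStalk M p = Module.rankAtStalk N p) : Nonempty (M ≃ₗ[R] N) := by
  classical
  obtain ⟨a, π₁, σ₁, h₁⟩ := exists_retract (R := R) M
  obtain ⟨b, π₂, σ₂, h₂⟩ := exists_retract (R := R) N
  let E₁ := LinearMap.toMatrix' (σ₁ ∘ₗ π₁)
  let E₂ := LinearMap.toMatrix' (σ₂ ∘ₗ π₂)
  let V := (Fin a × Fin b) ⊕ (Fin b × Fin a)
  let P := MvPolynomial V R
  let C₁ := E₁.map (algebraMap R P)
  let C₂ := E₂.map (algebraMap R P)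
  let T : Matrix (Fin a) (Fin b) P := Matrix.of fun i j => MvPolynomial.X (Sum.inl (i, j))
  let S : Matrix (Fin b) (Fin a) P := Matrix.of fun i j => MvPolynomial.X (Sum.inr (i, j))
  let G₁ : Matrix (Fin a) (Fin a) P := C₁ * T * C₂ * S * C₁ + (1 - C₁)
  let G₂ : Matrix (Fin b) (Fin b) P := C₂ * S * C₁ * T * C₂ + (1 - C₂)
  have hev : ∀ {A : Type u} [CommRing A] [Algebra R A] (t : Fin a → Fin b → A) (s : Fin b → Fin a → A),
      MvPolynomial.aeval (Sum.elim (fun x => t x.1 x.2) (fun x => s x.1 x.2)) (G₁.det * G₂.det) =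
        (E₁.map (algebraMap R A) * Matrix.of t * E₂.map (algebraMap R A) * Matrix.of s * E₁.map (algebraMap R A) +
            (1 - E₁.map (algebraMap R A))).det *
          (E₂.map (algebraMap R A) * Matrix.of s * E₁.map (algebraMap R A) * Matrix.of t * E₂.map (algebraMap R A) +
            (1 - E₂.map (algebraMap R A))).det := by
    intro A _ _ t s
    set φ : P →ₐ[R] A := MvPolynomial.aeval (Sum.elim (fun x => t x.1 x.2) (fun x => s x.1 x.2))
    have hC₁ : C₁.map φ = E₁.map (algebraMap R A) := by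
      ext i j; simp only [C₁, Matrix.map_apply]; exact φ.commutes _
    have hC₂ : C₂.map φ = E₂.map (algebraMap R A) := by
      ext i j; simp only [C₂, Matrix.map_apply]; exact φ.commutes _
    have hT : T.map φ = Matrix.of t := by
      ext i j; exact MvPolynomial.aeval_X _ _
    have hS : S.map φ = Matrix.of s := by
      ext i j; exact MvPolynomial.aeval_X _ _
    rw [map_mul, AlgHom.map_det, AlgHom.map_det]
    simp only [G₁, G₂, map_add, map_sub, map_one, AlgHom.mapMatrix_apply, Matrix.map_mul, hC₁, hC₂, hT, hS]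
  obtain ⟨w, hw⟩ := representsUnit hR (G₁.det * G₂.det) fun m hm => by
    letI := Ideal.Quotient.field m
    let F := R ⧸ m
    obtain ⟨π₁', σ₁', h₁', he₁⟩ := baseChange_retract F π₁ σ₁ h₁
    obtain ⟨π₂', σ₂', h₂', he₂⟩ := baseChange_retract F π₂ σ₂ h₂
    have hdim : Module.finrank F (F ⊗[R] M) = Module.finrank F (F ⊗[R] N) := by
      let q : PrimeSpectrum F := ⟨⊥, Ideal.isPrime_bot⟩
      have e1 := Module.rankAtStalk_baseChange (R := R) (M := M) (S := F) q
      have e2 := Module.rankAtStalk_baseChange (R := R) (M := N) (S := F) q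
      rw [Module.rankAtStalk_eq_finrank_of_free] at e1 e2
      exact e1.trans ((h _).trans e2.symm)
    obtain ⟨φ⟩ := FiniteDimensional.nonempty_linearEquiv_of_finrank_eq hdim
    let s₀ := LinearMap.toMatrix' (σ₂' ∘ₗ φ.toLinearMap ∘ₗ π₁')
    let t₀ := LinearMap.toMatrix' (σ₁' ∘ₗ φ.symm.toLinearMap ∘ₗ π₂')
    refine ⟨Sum.elim (fun x => t₀ x.1 x.2) (fun x => s₀ x.1 x.2), ?_⟩
    rw [hev (fun i j => t₀ i j) (fun i j => s₀ i j)]
    have hof₁ : (Matrix.of fun i j => t₀ i j) = t₀ := rfl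
    have hof₂ : (Matrix.of fun i j => s₀ i j) = s₀ := rfl
    have k₁ : ∀ v, (E₁.map (algebraMap R F)).mulVec v = σ₁' (π₁' v) := fun v =>
      (LinearMap.congr_fun he₁ v).symm
    have k₂ : ∀ v, (E₂.map (algebraMap R F)).mulVec v = σ₂' (π₂' v) := fun v =>
      (LinearMap.congr_fun he₂ v).symm
    have ks : ∀ v, s₀.mulVec v = σ₂' (φ (π₁' v)) := fun v => by
      rw [← Matrix.toLin'_apply, Matrix.toLin'_toMatrix']; rfl
    have kt : ∀ v, t₀.mulVec v = σ₁' (φ.symm (π₂' v)) := fun v => by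
      rw [← Matrix.toLin'_apply, Matrix.toLin'_toMatrix']; rfl
    have g₁ : E₁.map (algebraMap R F) * t₀ * E₂.map (algebraMap R F) * s₀ * E₁.map (algebraMap R F) +
        (1 - E₁.map (algebraMap R F)) = 1 := by
      refine Matrix.toLin'.injective (LinearMap.ext fun v => ?_)
      simp [Matrix.toLin'_apply, Matrix.add_mulVec, Matrix.sub_mulVec, ← Matrix.mulVec_mulVec, k₁, k₂, ks, kt, h₁', h₂']
    have g₂ : E₂.map (algebraMap R F) * s₀ * E₁.map (algebraMap R F) * t₀ * E₂.map (algebraMap R F) +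
        (1 - E₂.map (algebraMap R F)) = 1 := by
      refine Matrix.toLin'.injective (LinearMap.ext fun v => ?_)
      simp [Matrix.toLin'_apply, Matrix.add_mulVec, Matrix.sub_mulVec, ← Matrix.mulVec_mulVec, k₁, k₂, ks, kt, h₁', h₂']
    rw [hof₁, hof₂, g₁, g₂, Matrix.det_one, Matrix.det_one, mul_one]
    exact one_ne_zero
  have hw' : MvPolynomial.aeval w (G₁.det * G₂.det) =
      (E₁ * Matrix.of (fun i j => w (Sum.inl (i, j))) * E₂ * Matrix.of (fun i j => w (Sum.inr (i, j))) * E₁ + (1 - E₁)).det *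
        (E₂ * Matrix.of (fun i j => w (Sum.inr (i, j))) * E₁ * Matrix.of (fun i j => w (Sum.inl (i, j))) * E₂ + (1 - E₂)).det := by
    have hid : ∀ {n : ℕ} (X : Matrix (Fin n) (Fin n) R), X.map (algebraMap R R) = X := fun X => rfl
    have := hev (A := R) (fun i j => w (Sum.inl (i, j))) (fun i j => w (Sum.inr (i, j)))
    rw [hid, hid] at this
    rw [← this]
    congr 2
    funext x
    rcases x with ⟨i, j⟩ | ⟨i, j⟩ <;> rfl
  rw [hw', IsUnit.mul_iff] at hw
  let g : M →ₗ[R] N := π₂ ∘ₗ Matrix.toLin' (Matrix.of fun i j => w (Sum.inr (i, j))) ∘ₗ σ₁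
  let g' : N →ₗ[R] M := π₁ ∘ₗ Matrix.toLin' (Matrix.of fun i j => w (Sum.inl (i, j))) ∘ₗ σ₂
  have k₁ : ∀ v, E₁.mulVec v = σ₁ (π₁ v) := fun v => by
    rw [← Matrix.toLin'_apply, Matrix.toLin'_toMatrix']; rfl
  have k₂ : ∀ v, E₂.mulVec v = σ₂ (π₂ v) := fun v => by
    rw [← Matrix.toLin'_apply, Matrix.toLin'_toMatrix']; rfl
  have hbij : ∀ {k : ℕ} (X : Matrix (Fin k) (Fin k) R), IsUnit X.det → Function.Bijective X.mulVec := fun X hX =>
    ⟨Matrix.mulVec_injective_of_isUnit ((Matrix.isUnit_iff_isUnit_det X).mpr hX),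
      Matrix.mulVec_surjective_iff_isUnit.mpr ((Matrix.isUnit_iff_isUnit_det X).mpr hX)⟩
  have b₁ := hbij _ hw.1
  have b₂ := hbij _ hw.2
  refine ⟨LinearEquiv.ofBijective g ⟨(injective_iff_map_eq_zero g).mpr fun x hx => ?_, fun y => ?_⟩⟩
  · have h0 : σ₁ x = 0 := b₁.1 (by
      simp only [Matrix.add_mulVec, Matrix.sub_mulVec, Matrix.one_mulVec, ← Matrix.mulVec_mulVec, k₁, k₂, h₁,
        Matrix.mulVec_zero, sub_self, add_zero]
      have hx' : π₂ ((Matrix.of fun i j => w (Sum.inr (i, j))).mulVec (σ₁ x)) = 0 := hx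
      rw [hx', map_zero, Matrix.mulVec_zero, map_zero, map_zero])
    rw [← h₁ x, h0, map_zero]
  · obtain ⟨v, hv⟩ := b₂.2 (σ₂ y)
    refine ⟨g' (π₂ v), ?_⟩
    have := congrArg π₂ hv
    simp only [Matrix.add_mulVec, Matrix.sub_mulVec, Matrix.one_mulVec, ← Matrix.mulVec_mulVec, k₁, k₂,
      map_add, map_sub, h₂, sub_self, add_zero] at this
    exact this

end Iso

section Points

variable {A : Type w} [CommRing A] [Algebra R A] {n : ℕ}

theorem exists_basic (U : Set (PrimeSpectrum A)) (hU : IsCompact U) (hUo : IsOpen U) :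
    ∃ t : Finset A, ∀ q : PrimeSpectrum A, q ∈ U ↔ ∃ g ∈ t, g ∉ q.asIdeal := by
  obtain ⟨t, rfl⟩ := PrimeSpectrum.isCompact_isOpen_iff.mp ⟨hU, hUo⟩
  refine ⟨t, fun q => ?_⟩
  rw [Set.mem_compl_iff, PrimeSpectrum.mem_zeroLocus, Set.not_subset]
  rfl

theorem exists_point (hR : LGRing.IsLGRing R) (ψ : A →ₐ[R] MvPolynomial (Fin n) R) (t : Finset A)
    (h : ∀ (m : Ideal R) [m.IsMaximal], ∃ s : Fin n → R ⧸ m, ∃ g ∈ t, MvPolynomial.aeval s (ψ g) ≠ 0) :
    ∃ s : Fin n → R, ∀ q : PrimeSpectrum R, ∃ g ∈ t, MvPolynomial.aeval s (ψ g) ∉ q.asIdeal := by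
  classical
  let G : Fin t.card → MvPolynomial (Fin n) R := fun k => ψ (t.equivFin.symm k).1
  let F : MvPolynomial (Fin n ⊕ Fin t.card) R := ∑ k, MvPolynomial.X (Sum.inr k) * MvPolynomial.rename Sum.inl (G k)
  have hF : ∀ {S : Type u} [CommRing S] [Algebra R S] (v : Fin n ⊕ Fin t.card → S),
      MvPolynomial.aeval v F = ∑ k, v (Sum.inr k) * MvPolynomial.aeval (v ∘ Sum.inl) (G k) := fun v => by
    simp [F, MvPolynomial.aeval_rename]
  obtain ⟨v, hv⟩ := representsUnit hR F fun m hm => by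
    obtain ⟨s, g, hg, hs⟩ := h m
    refine ⟨Sum.elim s (Pi.single (t.equivFin ⟨g, hg⟩) 1), ?_⟩
    rw [hF, Finset.sum_eq_single (t.equivFin ⟨g, hg⟩)]
    · simpa [G] using hs
    · intro b _ hb
      simp [Pi.single_eq_of_ne hb]
    · simp
  refine ⟨v ∘ Sum.inl, fun q => ?_⟩
  by_contra hc
  push Not at hc
  refine q.isPrime.ne_top (Ideal.eq_top_of_isUnit_mem _ ?_ hv)
  rw [hF]
  exact Ideal.sum_mem _ fun k _ => Ideal.mul_mem_left _ _ (hc _ (t.equivFin.symm k).2)

variable {M : Type v} [AddCommGroup M] [Module R M]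

/-- coordinates on the bundle of `M`, given generators -/
noncomputable def coord (π : (Fin n → R) →ₗ[R] M) :
    SymmetricAlgebra R (Module.Dual R M) →ₐ[R] MvPolynomial (Fin n) R :=
  SymmetricAlgebra.lift (∑ i, (Module.Dual.eval R M (π (Pi.single i 1))).smulRight (MvPolynomial.X i))

theorem aeval_coord (π : (Fin n → R) →ₗ[R] M) {S : Type u} [CommRing S] [Algebra R S] (s : Fin n → S) :
    (MvPolynomial.aeval s).comp (coord π) =
      SymmetricAlgebra.lift (∑ i, (Module.Dual.eval R M (π (Pi.single i 1))).smulRight (s i)) := by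
  refine SymmetricAlgebra.algHom_ext (LinearMap.ext fun f => ?_)
  simp [coord, map_sum]

theorem exists_coord_eq (π : (Fin n → R) →ₗ[R] M) (σ : M →ₗ[R] (Fin n → R)) (h : ∀ x, π (σ x) = x)
    {S : Type u} [CommRing S] [Algebra R S] (φ : Module.Dual R M →ₗ[R] S) :
    (MvPolynomial.aeval fun i => φ (LinearMap.proj i ∘ₗ σ)).comp (coord π) = SymmetricAlgebra.lift φ := by
  classical
  rw [aeval_coord]
  congr 1
  refine LinearMap.ext fun f => ?_
  simp only [LinearMap.sum_apply, LinearMap.smulRight_apply, Module.Dual.eval_apply, ← map_smul, ← map_sum]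
  congr 1
  refine LinearMap.ext fun x => ?_
  simp only [LinearMap.sum_apply, LinearMap.smul_apply, LinearMap.comp_apply, LinearMap.proj_apply, smul_eq_mul]
  conv_rhs => rw [← h x, pi_eq_sum_univ' (σ x), map_sum, map_sum]
  exact Finset.sum_congr rfl fun i _ => by rw [map_smul, map_smul, smul_eq_mul, mul_comm]

theorem exists_notMem_map (π : (Fin n → R) →ₗ[R] M) (σ : M →ₗ[R] (Fin n → R)) (h : ∀ x, π (σ x) = x)
    (m : Ideal R) [m.IsMaximal] [Infinite (R ⧸ m)] {g : SymmetricAlgebra R (Module.Dual R M)}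
    (hg : g ∉ m.map (algebraMap R (SymmetricAlgebra R (Module.Dual R M)))) :
    ∃ s : Fin n → R ⧸ m, MvPolynomial.aeval s (coord π g) ≠ 0 := by
  classical
  by_contra hc
  push Not at hc
  have h0 : MvPolynomial.map (Ideal.Quotient.mk m) (coord π g) = 0 :=
    MvPolynomial.funext fun s => by
      rw [map_zero, MvPolynomial.eval_map, ← Ideal.Quotient.algebraMap_eq, ← MvPolynomial.aeval_def]
      exact hc s
  have h1 : coord π g ∈ m.map (algebraMap R (MvPolynomial (Fin n) R)) := by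
    rw [MvPolynomial.algebraMap_eq, MvPolynomial.mem_map_C_iff]
    intro e
    rw [← Ideal.Quotient.eq_zero_iff_mem, ← MvPolynomial.coeff_map, h0, MvPolynomial.coeff_zero]
  let ρ : MvPolynomial (Fin n) R →ₐ[R] SymmetricAlgebra R (Module.Dual R M) :=
    MvPolynomial.aeval fun i => SymmetricAlgebra.ι R (Module.Dual R M) (LinearMap.proj i ∘ₗ σ)
  have hρ : ρ.comp (coord π) = AlgHom.id R _ := by
    refine SymmetricAlgebra.algHom_ext (LinearMap.ext fun f => ?_)
    change ρ (coord π (SymmetricAlgebra.ι R (Module.Dual R M) f)) = SymmetricAlgebra.ι R (Module.Dual R M) f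
    rw [coord, SymmetricAlgebra.lift_ι_apply, LinearMap.sum_apply, map_sum]
    simp only [LinearMap.smulRight_apply, Module.Dual.eval_apply, map_smul, ρ, MvPolynomial.aeval_X]
    simp only [← map_smul]
    rw [← map_sum]
    congr 1
    refine LinearMap.ext fun x => ?_
    simp only [LinearMap.sum_apply, LinearMap.smul_apply, LinearMap.comp_apply, LinearMap.proj_apply, smul_eq_mul]
    conv_rhs => rw [← h x, pi_eq_sum_univ' (σ x), map_sum, map_sum]
    exact Finset.sum_congr rfl fun i _ => by rw [map_smul, map_smul, smul_eq_mul, mul_comm]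
  refine hg ?_
  have h2 := Ideal.mem_map_of_mem ρ.toRingHom h1
  rw [Ideal.map_map, AlgHom.toRingHom_eq_coe, AlgHom.comp_algebraMap] at h2
  rwa [RingHom.coe_coe, ← AlgHom.comp_apply, hρ] at h2

end Points

end Groth.Agent.LGLib
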